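import Mathlib
import Cfsg.Agent.Lib.OrthH1.Basic

/-! Certificate data for the case `E2`, machine-written.  Written by helper88. -/

set_option autoImplicit false
set_option maxRecDepth 100000
set_option maxHeartbeats 1000000

namespace Cfsg.Agent.Lib.OrthH1.E2

/-- The coordinates. -/
def idx : (Fin 2 ⊕ Fin 2) ⊕ Fin 2 ≃ Fin 6 := (Equiv.sumCongr finSumFinEquiv (Equiv.refl (Fin 2))).trans finSumFinEquiv

/-- Transversals. -/
def trans : List (List (ℕ × Bool × List ℕ)) := [
  [(0, false, []), (1, true, []), (2, true, [49, 7, 56, 7, 49, 36, 48, 49, 7, 36, 56, 11, 56, 11, 56, 36, 7, 49, 48, 36]), (3, true, [56, 7, 56, 7, 56, 49, 7, 11, 56, 11, 7, 49]), (4, true, [49, 7, 11, 56, 11, 7, 49]), (6, true, [56, 7, 56, 7, 56]), (8, true, [49, 7, 56, 7, 49, 56, 7, 56, 7, 56]), (9, true, [36, 48, 49, 7, 36, 56, 11, 56, 11, 56, 36, 7, 49, 48, 36, 49, 7, 11, 56, 11, 7, 49]), (12, true, [36, 48, 49, 7, 36, 56, 11, 56, 11, 56, 36, 7, 49, 48, 36]), (15, true, [49, 7, 56, 7, 49]), (21, true, [48, 56, 36, 56, 36, 56, 48]),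 (23, true, [48, 7, 36, 49, 7, 11, 56, 11, 7, 49, 36, 7, 48]), (26, true, [36, 56, 36, 56, 7, 56, 7, 56]), (27, true, [48, 36, 56, 11, 56, 11, 56, 36, 48, 49, 7, 11, 56, 11, 7, 49]), (29, true, [36, 56, 36]), (30, true, [48, 36, 56, 11, 56, 11, 56, 36, 48]), (37, true, [56, 36, 56, 36, 56]), (39, true, [7, 36, 49, 7, 11, 56, 11, 7, 49, 36, 7]), (42, true, [48, 36, 56, 36, 48, 56, 7, 56, 7, 56]), (43, true, [36, 56, 11, 56, 11, 56, 36, 49, 7, 11, 56, 11, 7, 49]), (45, true, [48, 36, 56, 36, 48]), (46, true, [36, 56, 11, 56, 11, 56, 36]), (53, true, [7, 11, 56, 11, 7]), (55, true, [49, 56, 7, 56, 7, 56, 49]), (58, true, [36, 48, 7, 36, 56, 11, 56, 11, 56, 36, 7, 48, 36, 56, 7, 56, 7, 56]), (59, true, [7, 56, 7, 49, 7, 11, 56, 11, 7, 49]), (61, true, [36, 48, 7, 36, 56, 11, 56, 11, 56, 36, 7, 48, 36]), (62, true, [7, 56, 7])],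
  [(0, false, []), (1, false, [0]), (2, true, [56, 11, 56, 11, 56, 7, 36, 48, 49, 7, 36, 56, 11, 56, 11, 56, 36, 7, 49, 48, 36, 7]), (3, true, []), (8, true, [56, 11, 56, 11, 56]), (9, true, [7, 36, 48, 49, 7, 36, 56, 11, 56, 11, 56, 36, 7, 49, 48, 36, 7]), (26, true, [49, 7, 36, 56, 11, 56, 11, 56, 36, 7, 49]), (27, true, [48, 7, 36, 56, 11, 56, 11, 56, 36, 7, 48]), (42, true, [48, 49, 7, 36, 56, 11, 56, 11, 56, 36, 7, 49, 48]), (43, true, [7, 36, 56, 11, 56, 11, 56, 36, 7]), (58, true, [11, 36, 48, 7, 36, 49, 7, 11, 56, 11, 7, 49, 36, 7, 48, 36, 11]), (59, true, [56])],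
  [(13, true, []), (14, true, [36, 49, 56, 7, 56, 7, 56, 49, 36, 48, 36, 49, 7, 11, 56, 11, 7, 49, 36, 48]), (28, true, [48, 36, 49, 7, 11, 56, 11, 7, 49, 36, 48]), (31, true, [36, 49, 56, 7, 56, 7, 56, 49, 36]), (44, true, [36, 49, 7, 11, 56, 11, 7, 49, 36]), (47, true, [48, 36, 49, 56, 7, 56, 7, 56, 49, 36, 48]), (60, true, [7, 49, 56, 7, 56, 7, 56, 49, 7]), (63, true, [36, 48, 7, 36, 49, 7, 11, 56, 11, 7, 49, 36, 7, 48, 36])],
  [(6, true, [11, 56, 11]), (21, true, [48, 36, 7, 11, 56, 11, 7, 36, 48]), (37, true, [36, 7, 11, 56, 11, 7, 36]), (53, true, [])],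
  [(31, true, []), (47, true, [36, 48, 56, 36, 56, 36, 56, 48, 36]), (60, true, [36, 56, 7, 56, 7, 56, 36])],
  [(33, true, [48, 36, 56, 7, 56, 7, 56, 36, 48]), (50, true, [])]]

/-- Relators. -/
def relators : List (ℕ × List (List Bool)) := [
  (11, [[false, false, false], [true, true, false, true, true, false, true, true, false, true, true, false, true, true, false]]),
  (7, [[false, false, false], [true, true, false, true, false, true, true, false, true, false, true, true, false, true, false]]),
  (49, [[false, false], [true, true, false, true, true, false, true, true, false, true, true, false, true, true, false], [true, true, false, true, false, true, true, false, true, false, true, true, false, true, false, true, true, false, true, false, true, true, false, true, false, true, true, false, true, false]]),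
  (36, [[false, false, false], [true, false, true, false, true, false, true, false, true, false]]),
  (48, [[false, false], [true, false, true, false, true, false, true, false, true, false], [true, true, true, true, false, true, true, true, true, false, true, true, true, true, false, true, true, true, true, false, true, true, true, true, false, true, true, true, true, false]])]

/-- The certificate. -/
def cert : Cert (Cfsg.quadFormMinus 2 (ZMod 2) 1 1) idx where
  qt := 10619368485066599584
  a0 := 56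
  A := [56, 11, 7, 49, 36, 48]
  par := [0, 0, 0, 2, 0, 4]
  C := [1, 3, 13, 53, 31, 50]
  spanning := [[0], [0, 1], [1, 3, 5], [0, 1, 2, 3, 5], [0, 1, 2, 4], [2, 4, 5]]
  T := trans
  xs := [49, 7, 49, 11, 36, 36, 48, 7]
  R := relators
  hq := by decide +kernel
  hlt := by decide +kernel
  hlin := by decide +kernel
  ha0 := by decide +kernel
  hpar := by decide +kernel
  hC := by decide +kernel
  hT := by decide +kernel
  hxs := by decide +kernel
  hxfix := by decide +kernel
  hrel := by decide +kernel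
  hkill := by decide +kernel

end Cfsg.Agent.Lib.OrthH1.E2
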