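import Mathlib
import Cfsg.Agent.Lib.OrthH1.Basic

/-! Certificate data for the case `D2`, machine-written.  Written by helper88. -/

set_option autoImplicit false
set_option maxRecDepth 100000
set_option maxHeartbeats 1000000

namespace Cfsg.Agent.Lib.OrthH1.D2

/-- The coordinates. -/
def idx : (Fin 1 ⊕ Fin 1) ⊕ Fin 2 ≃ Fin 4 := (Equiv.sumCongr finSumFinEquiv (Equiv.refl (Fin 2))).trans finSumFinEquiv

/-- Transversals. -/
def trans : List (List (ℕ × Bool × List ℕ)) := [
  [(0, false, []), (1, true, [5, 10, 9, 10, 5]), (2, true, [9, 5, 9, 5, 9]), (7, true, []), (11, true, [5, 9, 5]), (15, true, [5, 4, 9, 4, 5])],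
  [(1, true, []), (2, true, [10, 9, 10]), (11, true, [9, 10, 9, 10, 9]), (15, true, [10, 9, 4, 9, 4, 9, 10])],
  [(3, true, [4, 9, 4]), (10, true, [9, 4, 9, 4, 9]), (14, true, [])],
  [(3, true, [9]), (10, true, [])]]

/-- Relators. -/
def relators : List (ℕ × List (List Bool)) := [
  (4, [[false, false, false], [true, true, false, true, true, false]]),
  (10, [[true, false, true, false, false, false, false]]),
  (5, [[false, false, false], [true, false, false, true, false, false]])]

/-- The certificate. -/
def cert : Cert (Cfsg.quadFormMinus 1 (ZMod 2) 1 1) idx where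
  qt := 30584
  a0 := 9
  A := [9, 4, 10, 5]
  par := [0, 0, 0, 0]
  C := [7, 1, 14, 10]
  spanning := [[1], [0, 1, 2, 3], [2, 3], [0, 1, 2]]
  T := trans
  xs := [4, 10, 5]
  R := relators
  hq := by decide +kernel
  hlt := by decide +kernel
  hlin := by decide +kernel
  ha0 := by decide +kernel
  hpar := by decide +kernel
  hC := by decide +kernel
  hT := by decide +kernel
  hxs := by decide +kernel
  hxfix := by decide +kernel
  hrel := by decide +kernel
  hkill := by decide +kernel

end Cfsg.Agent.Lib.OrthH1.D2
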